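import Cfsg.Agent.H963.OneP.RankPrime
import Cfsg.Agent.H650.E27Central
import Cfsg.Agent.H426.OneP.Triv

/-!
# S4880, piece B6: `l(B₀(C_G(x))) = e` for a Sylow `p`-subgroup of order `p²`
-/

set_option autoImplicit false

namespace Cfsg.Agent.H963.OneP.RankEq

open Cfsg Subgroup

universe u

variable {G : Type u} [Group G] [Finite G] {p : ℕ} [hp : Fact p.Prime] {M : Ideal AlgInt}

/-- B6. -/
theorem rank_eq (hM : IsPModular p M) (hp2 : p ≠ 2) (P : Sylow p G) (hP : Nat.card P = p ^ 2)
    (hel : ∀ x ∈ (P : Subgroup G), x ^ p = 1) {x : G} (hx : x ∈ (P : Subgroup G)) (hx1 : x ≠ 1) :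
    blockRank p (principalBlock M (Subgroup.centralizer ({x} : Set G))) =
      (Subgroup.centralizer ((P : Subgroup G) : Set G)).relIndex
        (Subgroup.normalizer ((P : Subgroup G) : Set G) ⊓ Subgroup.centralizer ({x} : Set G)) := by
  classical
  have hp0 := hp.out
  have habel : ∀ a ∈ (P : Subgroup G), ∀ b ∈ (P : Subgroup G), a * b = b * a := by
    intro a ha b hb
    have hcomm := IsPGroup.isMulCommutative_of_card_eq_prime_sq hP
    exact congrArg Subtype.val (hcomm.is_comm.comm (⟨a, ha⟩ : P) ⟨b, hb⟩)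
  have hxo : orderOf x = p := orderOf_eq_prime (hel x hx) hx1
  let C : Subgroup G := centralizer ({x} : Set G)
  have hCz : C = centralizer ((zpowers x : Subgroup G) : Set G) := by
    ext g
    show g ∈ centralizer ({x} : Set G) ↔ _
    rw [mem_centralizer_singleton_iff, mem_centralizer_iff]
    constructor
    · rintro h _ ⟨i, rfl⟩
      exact ((show Commute g x from h).zpow_right i).eq.symm
    · intro h
      exact (h x (mem_zpowers x)).symm
  have hPC : (P : Subgroup G) ≤ C := fun a ha =>
    mem_centralizer_singleton_iff.2 (habel a ha x hx)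
  have hZC : zpowers x ≤ C := by
    rw [zpowers_le]
    exact mem_centralizer_singleton_iff.2 rfl
  have hZP : zpowers x ≤ (P : Subgroup G) := by rwa [zpowers_le]
  let Z : Subgroup C := (zpowers x).subgroupOf C
  have hZc : Z ≤ center C := by
    intro u hu
    rw [mem_center_iff]
    intro g
    apply Subtype.ext
    have h1 : (g : G) ∈ centralizer ((zpowers x : Subgroup G) : Set G) := hCz.le g.2
    exact (mem_centralizer_iff.1 h1 _ hu).symm
  have hZn : Z.Normal := by
    constructor
    intro u hu g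
    have h1 := mem_center_iff.1 (hZc hu) g
    rw [h1, mul_inv_cancel_right]
    exact hu
  have hcardZ : Nat.card (zpowers x) = p := by rw [Nat.card_zpowers, hxo]
  have hZp : IsPGroup p Z := by
    refine IsPGroup.of_card (n := 1) ?_
    rw [Nat.card_congr (subgroupOfEquivOfLe hZC).toEquiv, hcardZ, pow_one]
  let X := C ⧸ Z
  let π : C →* X := QuotientGroup.mk' Z
  have hπs : Function.Surjective π := QuotientGroup.mk'_surjective _
  have hπker : ∀ h : C, π h = 1 ↔ (h : G) ∈ zpowers x := by
    intro h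
    rw [QuotientGroup.mk'_apply, QuotientGroup.eq_one_iff, mem_subgroupOf]
  let PX : Sylow p X := (P.subtype hPC).mapSurjective hπs
  have hPXc : (PX : Subgroup X) = ((P : Subgroup G).subgroupOf C).map π := rfl
  have hmemPX : ∀ y (hy : y ∈ (P : Subgroup G)), π ⟨y, hPC hy⟩ ∈ (PX : Subgroup X) := fun y hy => by
    rw [hPXc]; exact ⟨⟨y, hPC hy⟩, hy, rfl⟩
  have hPXcard : Nat.card PX = p := by
    let f : P →* X := π.comp (inclusion hPC)
    have h1 : f.range = (PX : Subgroup X) := by
      ext y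
      rw [hPXc]
      constructor
      · rintro ⟨a, rfl⟩
        exact ⟨⟨a, hPC a.2⟩, a.2, rfl⟩
      · rintro ⟨a, ha, rfl⟩
        exact ⟨⟨a, ha⟩, rfl⟩
    have h2 : f.ker = (zpowers x).subgroupOf (P : Subgroup G) := by
      ext y
      rw [MonoidHom.mem_ker, mem_subgroupOf]
      exact hπker _
    have h3 := f.ker.card_mul_index
    rw [index_ker, h1, h2, Nat.card_congr (subgroupOfEquivOfLe hZP).toEquiv, hcardZ, hP,
      pow_two] at h3
    exact Nat.eq_of_mul_eq_mul_left hp0.pos h3
  have hr1 : blockRank p (principalBlock M C) = blockRank p (principalBlock M X) :=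
    H650.E27.blockRank_quot hM hZc hZp
  have hr2 := RankPrime.rank_prime hM hp2 PX hPXcard
  -- the inertial index
  let NC : Subgroup G := normalizer ((P : Subgroup G) : Set G) ⊓ C
  have hNCH : NC ≤ C := inf_le_right
  let f : NC →* X := π.comp (inclusion hNCH)
  have hf : ∀ c : NC, f c = π ⟨c, hNCH c.2⟩ := fun c => rfl
  have hsub : ∀ c : NC, ∀ y ∈ (PX : Subgroup X), f c * y * (f c)⁻¹ ∈ (PX : Subgroup X) := by
    intro c y hy
    rw [hPXc] at hy
    obtain ⟨a, ha, rfl⟩ := hy
    have h1 : (c : G) * a * (c : G)⁻¹ ∈ (P : Subgroup G) := (mem_normalizer_iff.1 c.2.1 a).1 ha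
    have h2 := hmemPX _ h1
    have h3 : π ⟨(c : G) * a * (c : G)⁻¹, hPC h1⟩ = f c * π a * (f c)⁻¹ := by
      rw [hf, ← map_mul, ← map_inv, ← map_mul]
      rfl
    rwa [h3] at h2
  have hr : f.range = normalizer ((PX : Subgroup X) : Set X) := by
    apply le_antisymm
    · rintro _ ⟨c, rfl⟩
      rw [mem_normalizer_iff]
      intro y
      refine ⟨hsub c y, fun h => ?_⟩
      have h1 := hsub c⁻¹ _ h
      have h2 : f c⁻¹ * (f c * y * (f c)⁻¹) * (f c⁻¹)⁻¹ = y := by
        rw [map_inv]; group
      rwa [h2] at h1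
    · intro y hy
      obtain ⟨c, rfl⟩ := hπs y
      have key : ∀ d : C, π d ∈ normalizer ((PX : Subgroup X) : Set X) →
          ∀ a ∈ (P : Subgroup G), (d : G) * a * (d : G)⁻¹ ∈ (P : Subgroup G) := by
        intro d hd a ha
        have h1 := (mem_normalizer_iff.1 hd _).1 (hmemPX a ha)
        rw [← map_inv, ← map_mul, ← map_mul, hPXc] at h1
        obtain ⟨b, hb, hb2⟩ := h1
        have h2 : π (b⁻¹ * (d * ⟨a, hPC ha⟩ * d⁻¹)) = 1 := by
          rw [map_mul, map_inv, hb2, inv_mul_cancel]
        have h3 : ((b⁻¹ * (d * ⟨a, hPC ha⟩ * d⁻¹) : C) : G) ∈ (P : Subgroup G) :=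
          hZP ((hπker _).1 h2)
        have h4 : (d : G) * a * (d : G)⁻¹ =
            (b : G) * ((b⁻¹ * (d * ⟨a, hPC ha⟩ * d⁻¹) : C) : G) := by
          push_cast
          group
        rw [h4]
        exact mul_mem hb h3
      have hcN : (c : G) ∈ normalizer ((P : Subgroup G) : Set G) := by
        rw [mem_normalizer_iff]
        intro a
        refine ⟨key c hy a, fun h => ?_⟩
        have h1 := key c⁻¹ (by rw [map_inv]; exact inv_mem hy) _ h
        have h2 : ((c⁻¹ : C) : G) * ((c : G) * a * (c : G)⁻¹) * ((c⁻¹ : C) : G)⁻¹ = a := by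
          push_cast
          group
        rwa [h2] at h1
      exact ⟨⟨c, hcN, c.2⟩, rfl⟩
  have hcomap : (centralizer ((PX : Subgroup X) : Set X)).comap f =
      (centralizer ((P : Subgroup G) : Set G)).subgroupOf NC := by
    ext c
    rw [mem_comap, mem_subgroupOf]
    constructor
    · intro h
      refine H426.OneP.mem_centralizer_of_quot P hel habel hx c.2.1 c.2.2 fun y hy => ?_
      have h1 : (c : G) * y * (c : G)⁻¹ ∈ (P : Subgroup G) := (mem_normalizer_iff.1 c.2.1 y).1 hy
      have h2 := mem_centralizer_iff.1 h _ (hmemPX y hy)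
      have h4 : π ⟨y⁻¹ * ((c : G) * y * (c : G)⁻¹), hPC (mul_mem (inv_mem hy) h1)⟩ = 1 := by
        have h5 : π ⟨y⁻¹ * ((c : G) * y * (c : G)⁻¹), hPC (mul_mem (inv_mem hy) h1)⟩ =
            (π ⟨y, hPC hy⟩)⁻¹ * (f c * π ⟨y, hPC hy⟩ * (f c)⁻¹) := by
          rw [hf, ← map_inv π, ← map_inv π, ← map_mul, ← map_mul, ← map_mul]
          rfl
        rw [h5, ← h2]
        group
      exact (hπker _).1 h4
    · intro h
      rw [mem_centralizer_iff]
      intro y hy
      rw [hPXc] at hy
      obtain ⟨a, ha, rfl⟩ := hy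
      rw [hf, ← map_mul, ← map_mul]
      congr 1
      exact Subtype.ext (mem_centralizer_iff.1 h _ ha)
  have h1 : (centralizer ((P : Subgroup G) : Set G)).relIndex NC =
      (centralizer ((PX : Subgroup X) : Set X)).relIndex f.range := by
    rw [← index_comap, hcomap]
    rfl
  rw [hr] at h1
  exact hr1.trans (hr2.trans h1.symm)

end Cfsg.Agent.H963.OneP.RankEq
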