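import Cfsg.Agent.H634.OneP.Def
import Cfsg.Agent.Blocks.AvgIntegral
import Cfsg.Agent.S0848

/-!
# S4880, block half, pieces B2 and B3 (helper963)

* `exists_coeff` : the reductions of the irreducible characters span the class functions on `p`-regular elements;
* `block_indep` : linear relations modulo `V` respect the blocks.
-/

set_option autoImplicit false

open Cfsg IsLocalRing

namespace Cfsg.Agent.H963.OneP

open Cfsg.Agent.H634.OneP Cfsg.Agent.H657 Cfsg.Agent.Characters.Core
open scoped ComplexConjugate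

universe u

variable {G : Type u} [Group G] [Finite G] {p : ℕ} [hp : Fact p.Prime] {M : Ideal AlgInt}
  {V : ValuationSubring ℂ}

omit [Finite G] hp in
theorem mem_of_integral (hV : Above M V) {z : ℂ} (hz : IsIntegral ℤ z) : z ∈ V := hV.mem ⟨z, hz⟩

theorem char_mem (hV : Above M V) (χ : IrrCharacter G) (g : G) : (χ : G → ℂ) g ∈ V :=
  mem_of_integral hV (Blocks.Central.isIntegral_irr χ.2 g)

omit [Finite G] in
/-- an element `y q ≠ y`, `y` `p`-regular, `q` a `p`-element commuting with `y`, is `p`-singular -/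
theorem singular {s q : G} (hc : Commute s q) (hs : ¬ p ∣ orderOf s) {k : ℕ} (hq : q ^ p ^ k = 1) (hq1 : q ≠ 1) :
    p ∣ orderOf (s * q) :=
  Blocks.AvgIntegral.dvd_orderOf_mul hp.out hc hs hq1 hq

/-- the characteristic function of a `p`-regular class, modulo `V` -/
theorem class_coeff [Fintype (IrrCharacter G)] (hM : IsPModular p M) (hV : Above M V) {s : G}
    (hs : ¬ p ∣ orderOf s) :
    ∃ (c : IrrCharacter G → ResidueField V) (n : ResidueField V), n ≠ 0 ∧ ∀ g : G, ¬ p ∣ orderOf g →
      (IsConj g s → ∑ χ, c χ * rd V (χ : G → ℂ) g = n) ∧ (¬ IsConj g s → ∑ χ, c χ * rd V (χ : G → ℂ) g = 0) := by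
  classical
  have := hV.charP hM
  have := Fintype.ofFinite G
  -- the Sylow subgroup of the centralizer
  obtain ⟨P⟩ : Nonempty (Sylow p (Subgroup.centralizer ({s} : Set G))) := inferInstance
  set Q : Subgroup G := (P : Subgroup (Subgroup.centralizer ({s} : Set G))).map
    (Subgroup.centralizer ({s} : Set G)).subtype with hQ
  have := Fintype.ofFinite Q
  have hQc : ∀ q ∈ Q, Commute s q := by
    rintro _ ⟨q, -, rfl⟩
    exact (Subgroup.mem_centralizer_singleton_iff.1 q.2).symm
  have hQp : ∀ q ∈ Q, ∃ k : ℕ, q ^ p ^ k = 1 := by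
    rintro _ ⟨q, hq, rfl⟩
    obtain ⟨k, hk⟩ := P.isPGroup' ⟨q, hq⟩
    refine ⟨k, ?_⟩
    have h1 := congrArg (fun t : (P : Subgroup (Subgroup.centralizer ({s} : Set G))) => ((t : _) : G)) hk
    simpa using h1
  have hcard : Nat.card Q = Nat.card P :=
    (Nat.card_congr ((P : Subgroup (Subgroup.centralizer ({s} : Set G))).equivMapOfInjective _
      (Subgroup.subtype_injective _)).toEquiv).symm
  have hQ0 : (Nat.card Q : ℂ) ≠ 0 := by exact_mod_cast Nat.card_pos.ne'
  obtain ⟨m, hm⟩ : ∃ m, Nat.card (Subgroup.centralizer ({s} : Set G)) = Nat.card Q * m := by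
    rw [hcard]
    exact Subgroup.card_subgroup_dvd_card _
  have hmp : ¬ p ∣ m := by
    intro h
    apply P.not_dvd_index
    have h1 := (P : Subgroup (Subgroup.centralizer ({s} : Set G))).card_mul_index
    rw [hm, hcard] at h1
    rw [Nat.eq_of_mul_eq_mul_left Nat.card_pos h1]
    exact h
  -- the coefficients
  let c0 : IrrCharacter G → ℂ := fun χ => (Nat.card Q : ℂ)⁻¹ * ∑ q : Q, (χ : G → ℂ) (s⁻¹ * q)
  have hc0 : ∀ χ, c0 χ ∈ V := fun χ => mem_of_integral hV
    (Blocks.AvgIntegral.isIntegral_avg (isIrr_isCharacter χ.2) Q s⁻¹ fun q hq => (hQc q hq).inv_left)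
  -- orthogonality
  have horth : ∀ g : G, ¬ p ∣ orderOf g →
      ∑ χ, c0 χ * (χ : G → ℂ) g = if IsConj g s then (m : ℂ) else 0 := by
    intro g hg
    have h1 : ∑ χ, c0 χ * (χ : G → ℂ) g =
        (Nat.card Q : ℂ)⁻¹ * ∑ q : Q, (Nat.card {a : G // a * g * a⁻¹ = (q : G)⁻¹ * s} : ℂ) := by
      simp only [c0]
      have h2 : ∀ q : Q, (Nat.card {a : G // a * g * a⁻¹ = (q : G)⁻¹ * s} : ℂ) =
          ∑ χ : IrrCharacter G, (χ : G → ℂ) g * (χ : G → ℂ) (s⁻¹ * q) := by
        intro q
        rw [S0848.column_orth]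
        refine Finset.sum_congr rfl fun χ _ => ?_
        rw [← isCharacter_apply_inv (isIrr_isCharacter χ.2)]
        congr 2
        group
      rw [Finset.sum_congr rfl fun q _ => h2 q, Finset.sum_comm, Finset.mul_sum]
      refine Finset.sum_congr rfl fun χ _ => ?_
      rw [← Finset.mul_sum]
      ring
    rw [h1, Finset.sum_eq_single (1 : Q)]
    · by_cases hgs : IsConj g s
      · rw [if_pos hgs]
        obtain ⟨b, hb⟩ := isConj_iff.1 hgs
        have h3 : Nat.card {a : G // a * g * a⁻¹ = ((1 : Q) : G)⁻¹ * s} =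
            Nat.card (Subgroup.centralizer ({s} : Set G)) := by
          refine Nat.card_congr
            { toFun := fun a => ⟨a.1 * b⁻¹, ?_⟩
              invFun := fun t => ⟨t.1 * b, ?_⟩
              left_inv := fun a => Subtype.ext (by simp)
              right_inv := fun t => Subtype.ext (by simp) }
          · have h4 : a.1 * g * a.1⁻¹ = s := by simpa using a.2
            rw [Subgroup.mem_centralizer_singleton_iff]
            have h5 : b⁻¹ * s * b = g := by rw [← hb]; group
            calc a.1 * b⁻¹ * s = (a.1 * (b⁻¹ * s * b) * a.1⁻¹) * (a.1 * b⁻¹) := by group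
              _ = s * (a.1 * b⁻¹) := by rw [h5, h4]
          · have h4 := Subgroup.mem_centralizer_singleton_iff.1 t.2
            rw [Subgroup.coe_one, inv_one, one_mul]
            calc t.1 * b * g * (t.1 * b)⁻¹ = t.1 * (b * g * b⁻¹) * t.1⁻¹ := by group
              _ = s := by rw [hb, h4]; group
        rw [h3, hm]
        push_cast
        rw [← mul_assoc, inv_mul_cancel₀ hQ0, one_mul]
      · rw [if_neg hgs]
        have h3 : IsEmpty {a : G // a * g * a⁻¹ = ((1 : Q) : G)⁻¹ * s} := by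
          exact ⟨fun a => hgs (isConj_iff.2 ⟨a.1, by simpa using a.2⟩)⟩
        rw [Nat.card_eq_zero.2 (Or.inl h3), Nat.cast_zero, mul_zero]
    · intro q _ hq1
      have h3 : IsEmpty {a : G // a * g * a⁻¹ = (q : G)⁻¹ * s} := by
        refine ⟨fun a => hg ?_⟩
        have h4 : orderOf g = orderOf (a.1 * g * a.1⁻¹) := ((MulAut.conj a.1).orderOf_eq g).symm
        obtain ⟨k, hk⟩ := hQp q q.2
        have hc : Commute s (q : G)⁻¹ := (hQc q q.2).inv_right
        rw [h4, a.2, ← hc.eq]
        refine singular hc hs (k := k) (by rw [inv_pow, hk, inv_one]) ?_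
        intro h5
        exact hq1 (Subtype.ext (inv_eq_one.1 h5))
      rw [Nat.card_eq_zero.2 (Or.inl h3), Nat.cast_zero]
    · intro h
      exact absurd (Finset.mem_univ _) h
  refine ⟨fun χ => residue V ⟨c0 χ, hc0 χ⟩, (m : ResidueField V), ?_, fun g hg => ?_⟩
  · rw [Ne, CharP.cast_eq_zero_iff (ResidueField V) p]
    exact hmp
  · have h1 : ∑ χ : IrrCharacter G, residue V ⟨c0 χ, hc0 χ⟩ * rd V (χ : G → ℂ) g =
        residue V (∑ χ : IrrCharacter G, (⟨c0 χ, hc0 χ⟩ : V) * ⟨(χ : G → ℂ) g, char_mem hV χ g⟩) := by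
      rw [map_sum]
      refine Finset.sum_congr rfl fun χ _ => ?_
      rw [map_mul, rd_of (char_mem hV χ g)]
    have h2 : ((∑ χ : IrrCharacter G, (⟨c0 χ, hc0 χ⟩ : V) * ⟨(χ : G → ℂ) g, char_mem hV χ g⟩ : V) : ℂ) =
        if IsConj g s then (m : ℂ) else 0 := by
      rw [← horth g hg]
      push_cast
      rfl
    rw [h1]
    refine ⟨fun hgs => ?_, fun hgs => ?_⟩
    · rw [if_pos hgs] at h2
      have h3 : (∑ χ : IrrCharacter G, (⟨c0 χ, hc0 χ⟩ : V) * ⟨(χ : G → ℂ) g, char_mem hV χ g⟩ : V) = (m : V) :=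
        Subtype.ext (by rw [h2]; push_cast; rfl)
      rw [h3, map_natCast]
    · rw [if_neg hgs] at h2
      have h3 : (∑ χ : IrrCharacter G, (⟨c0 χ, hc0 χ⟩ : V) * ⟨(χ : G → ℂ) g, char_mem hV χ g⟩ : V) = 0 :=
        Subtype.ext (by rw [h2]; push_cast; rfl)
      rw [h3, map_zero]

/-- **B2.** The reductions of the irreducible characters span the class functions on `p`-regular elements. -/
theorem exists_coeff (hM : IsPModular p M) (hV : Above M V) (f : G → ResidueField V)
    (hf : ∀ g h : G, f (h * g * h⁻¹) = f g) :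
    ∃ a : IrrCharacter G → ResidueField V, ∀ g : G, ¬ p ∣ orderOf g →
      f g = ∑ᶠ χ : IrrCharacter G, a χ * rd V (χ : G → ℂ) g := by
  classical
  have := Characters.Core.finite_irr (G := G)
  have := Fintype.ofFinite (IrrCharacter G)
  have := Fintype.ofFinite G
  have := Fintype.ofFinite (ConjClasses G)
  -- representatives
  let rep : ConjClasses G → G := fun C => Quotient.out C
  have hrep : ∀ C, ConjClasses.mk (rep C) = C := fun C => Quotient.out_eq C
  have key : ∀ C : ConjClasses G, ∃ (c : IrrCharacter G → ResidueField V) (n : ResidueField V), n ≠ 0 ∧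
      (¬ p ∣ orderOf (rep C) → ∀ g : G, ¬ p ∣ orderOf g →
        (IsConj g (rep C) → ∑ χ, c χ * rd V (χ : G → ℂ) g = n) ∧
        (¬ IsConj g (rep C) → ∑ χ, c χ * rd V (χ : G → ℂ) g = 0)) := by
    intro C
    by_cases h : p ∣ orderOf (rep C)
    · exact ⟨0, 1, one_ne_zero, fun h1 => absurd h h1⟩
    · obtain ⟨c, n, h1, h2⟩ := class_coeff hM hV h
      exact ⟨c, n, h1, fun _ => h2⟩
  choose c n hn hc using key
  refine ⟨fun χ => ∑ C : ConjClasses G, if p ∣ orderOf (rep C) then 0 else f (rep C) / n C * c C χ, fun g hg => ?_⟩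
  rw [finsum_eq_sum_of_fintype]
  have h1 : ∑ χ : IrrCharacter G, (∑ C : ConjClasses G, if p ∣ orderOf (rep C) then 0 else
      f (rep C) / n C * c C χ) * rd V (χ : G → ℂ) g =
      ∑ C : ConjClasses G, if p ∣ orderOf (rep C) then 0 else
        f (rep C) / n C * ∑ χ, c C χ * rd V (χ : G → ℂ) g := by
    simp only [Finset.sum_mul]
    rw [Finset.sum_comm]
    refine Finset.sum_congr rfl fun C _ => ?_
    split_ifs with h
    · simp
    · rw [Finset.mul_sum]
      refine Finset.sum_congr rfl fun χ _ => ?_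
      ring
  rw [h1, Finset.sum_eq_single (ConjClasses.mk g)]
  · have h2 : IsConj g (rep (ConjClasses.mk g)) := ConjClasses.mk_eq_mk_iff_isConj.1 (hrep _).symm
    obtain ⟨b, hb⟩ := isConj_iff.1 h2
    have h3 : ¬ p ∣ orderOf (rep (ConjClasses.mk g)) := by
      rw [← hb]
      have h4 : orderOf (b * g * b⁻¹) = orderOf g := (MulAut.conj b).orderOf_eq g
      rwa [h4]
    rw [if_neg h3, ((hc _ h3) g hg).1 h2, div_mul_cancel₀ _ (hn _), ← hb, hf]
  · intro C _ hC
    split_ifs with h
    · rfl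
    · rw [((hc _ h) g hg).2 fun h2 => hC ?_, mul_zero]
      rw [← hrep C]
      exact (ConjClasses.mk_eq_mk_iff_isConj.2 h2).symm
  · intro h
    exact absurd (Finset.mem_univ _) h

/-! ### B3 -/

section Indep

attribute [local instance] Above.isAlgClosed

open Cfsg.Agent.H608.BlockRank

/-- functions in the span of the traces depend on the `p`-regular part only -/
theorem eq_zero_of_span (hM : IsPModular p M) (hV : Above M V) {F : G → ResidueField V}
    (hF : F ∈ Submodule.span (ResidueField V) (Set.range fun i : IBr V G => (i.1 : G → ResidueField V)))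
    (h : ∀ s : G, ¬ p ∣ orderOf s → F s = 0) : F = 0 := by
  have := hV.charP hM
  have key : ∀ {x y : G}, Commute x y → ∀ {k : ℕ}, x ^ p ^ k = 1 → F (x * y) = F y := by
    intro x y hxy k hx
    refine Submodule.span_induction (p := fun f _ => f (x * y) = f y) ?_ ?_ ?_ ?_ hF
    · rintro _ ⟨i, rfl⟩
      exact ibr_apply_pPart i hxy hx
    · rfl
    · intro a b _ _ ha hb
      rw [Pi.add_apply, Pi.add_apply, ha, hb]
    · intro a b _ hb
      rw [Pi.smul_apply, Pi.smul_apply, hb]
  funext g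
  obtain ⟨x, y, hxy, hcomm, ⟨k, hk⟩, hy⟩ := Blocks.PPart.exists_isPPart p g
  have hx : x ^ p ^ k = 1 := by rw [← hk, pow_orderOf_eq_one]
  rw [← hxy, key hcomm hx, h y hy]
  rfl

/-- the reduction of an irreducible character as a combination of traces -/
theorem exists_red (hM : IsPModular p M) (hV : Above M V) (χ : IrrCharacter G) :
    ∃ F ∈ Submodule.span (ResidueField V)
        ((fun i : IBr V G => (i.1 : G → ResidueField V)) '' {i : IBr V G | Under i (χ : G → ℂ)}),
      ∀ s : G, ¬ p ∣ orderOf s → rd V (χ : G → ℂ) s = F s := by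
  have := hV.charP hM
  obtain ⟨m, idx, h1, h2⟩ := exists_decomp hM hV χ.2
  refine ⟨∑ l, ((idx l).1 : G → ResidueField V), Submodule.sum_mem _ fun l _ =>
    Submodule.subset_span ⟨idx l, h1 l, rfl⟩, fun s hs => ?_⟩
  rw [rd_of (char_mem hV χ s), Finset.sum_apply]
  choose z hz1 hz2 using fun l => phi_spec (p := p) (idx l) hs
  have h3 : (⟨(χ : G → ℂ) s, char_mem hV χ s⟩ : V) = ∑ l, z l := by
    apply Subtype.ext
    push_cast
    rw [h2 s hs]
    exact Finset.sum_congr rfl fun l _ => hz1 l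
  rw [h3, map_sum]
  exact Finset.sum_congr rfl fun l _ => hz2 l

/-- **B3.** Linear relations modulo `V` respect the blocks. -/
theorem block_indep (hM : IsPModular p M) (hV : Above M V) (b : IrrCharacter G → ResidueField V)
    (h : ∀ s : G, ¬ p ∣ orderOf s → ∑ᶠ χ : IrrCharacter G, b χ * rd V (χ : G → ℂ) s = 0)
    {B : Set (IrrCharacter G)} (hB : IsPBlock M B) :
    ∀ s : G, ¬ p ∣ orderOf s → ∑ᶠ χ ∈ B, b χ * rd V (χ : G → ℂ) s = 0 := by
  classical
  have := Characters.Core.finite_irr (G := G)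
  have := Fintype.ofFinite (IrrCharacter G)
  have := hV.charP hM
  have hMp := Blocks.Local.isPrime_of_isPModular hM
  have hU : IsUnion M B := isUnion_of_isPBlock hB
  choose F hF hF' using fun χ : IrrCharacter G => exists_red hM hV χ
  let FS : Set (IrrCharacter G) → (G → ResidueField V) := fun S => ∑ χ ∈ S.toFinset, b χ • F χ
  have hFS : ∀ S : Set (IrrCharacter G), FS S ∈ Submodule.span (ResidueField V)
      ((fun i : IBr V G => (i.1 : G → ResidueField V)) '' ibrUnder V S) := by
    intro S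
    refine Submodule.sum_mem _ fun χ hχ => Submodule.smul_mem _ _ (Submodule.span_mono (Set.image_mono ?_) (hF χ))
    exact fun i hi => ⟨χ, Set.mem_toFinset.1 hχ, hi⟩
  have hval : ∀ (S : Set (IrrCharacter G)) (s : G), ¬ p ∣ orderOf s →
      ∑ᶠ χ ∈ S, b χ * rd V (χ : G → ℂ) s = FS S s := by
    intro S s hs
    rw [finsum_mem_eq_toFinset_sum]
    simp only [FS, Finset.sum_apply, Pi.smul_apply, smul_eq_mul]
    exact Finset.sum_congr rfl fun χ _ => by rw [hF' χ s hs]
  have h0 : FS B + FS Bᶜ = 0 := by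
    refine eq_zero_of_span hM hV (Submodule.add_mem _ ?_ ?_) fun s hs => ?_
    · exact Submodule.span_mono (Set.image_subset_range _ _) (hFS B)
    · exact Submodule.span_mono (Set.image_subset_range _ _) (hFS Bᶜ)
    · have e := finsum_mem_union (f := fun χ : IrrCharacter G => b χ * rd V (χ : G → ℂ) s)
        (Set.disjoint_compl_right_iff_subset.2 (subset_rfl : B ⊆ B)) (Set.toFinite B) (Set.toFinite Bᶜ)
      rw [Set.union_compl_self, finsum_mem_univ, h s hs] at e
      rw [Pi.add_apply, ← hval B s hs, ← hval Bᶜ s hs, ← e]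
  have hdisj : Disjoint (ibrUnder V B) (ibrUnder V Bᶜ) := by
    rw [Set.disjoint_left]
    rintro j ⟨χ₁, hχ₁, h1⟩ ⟨χ₂, hχ₂, h2⟩
    exact hχ₂ (hU χ₁ χ₂ (under_sameBlock hM hV χ₁.2 χ₂.2 h1 h2) hχ₁)
  have hd := (linearIndependent_ibr (V := V) (G := G)).disjoint_span_image hdisj
  rw [Submodule.disjoint_def] at hd
  have h1 : FS B = 0 := by
    refine hd _ (hFS B) ?_
    rw [eq_neg_of_add_eq_zero_left h0]
    exact Submodule.neg_mem _ (hFS Bᶜ)
  intro s hs
  rw [hval B s hs, h1]
  rfl

end Indep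

end Cfsg.Agent.H963.OneP
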