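import Cfsg.Agent.H595.AbCount
import Cfsg.Agent.S0960

/-!
# `l(B₀) = e` for a group with Sylow `p`-subgroup of order `p` (`p` odd)
-/

set_option autoImplicit false

namespace Cfsg.Agent.H963.OneP.RankPrime

open Cfsg Subgroup Cfsg.Agent.H595.AbCount

universe u

variable {G : Type u} [Group G] [Finite G] {p : ℕ} [hp : Fact p.Prime] {M : Ideal AlgInt}

theorem centralizer_eq (P : Sylow p G) (hP : Nat.card P = p) {u : G}
    (hu : u ∈ (P : Subgroup G)) (hu1 : u ≠ 1) :
    centralizer ({u} : Set G) = centralizer ((P : Subgroup G) : Set G) := by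
  have hou : orderOf u = p := by
    have h1 : orderOf u ∣ p := by
      rw [← hP]
      exact Subgroup.orderOf_dvd_natCard _ hu
    rcases (Nat.dvd_prime hp.out).1 h1 with h | h
    · exact absurd (orderOf_eq_one_iff.1 h) hu1
    · exact h
  have h1 : zpowers u = (P : Subgroup G) := by
    apply Subgroup.eq_of_le_of_card_ge (zpowers_le.2 hu)
    rw [Nat.card_zpowers, hou, hP]
  ext g
  rw [mem_centralizer_singleton_iff, mem_centralizer_iff, ← h1]
  constructor
  · rintro h _ ⟨i, rfl⟩
    exact ((show Commute g u from h).zpow_right i).eq.symm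
  · intro h
    exact (h u (mem_zpowers u)).symm

omit [Finite G] in
theorem comm_of_prime (P : Sylow p G) (hP : Nat.card P = p) {x y : G} (hx : x ∈ (P : Subgroup G))
    (hy : y ∈ (P : Subgroup G)) : x * y = y * x := by
  have hcyc : IsCyclic P := isCyclic_of_prime_card hP
  obtain ⟨g, hg⟩ := hcyc.exists_generator
  obtain ⟨i, hi⟩ := mem_zpowers_iff.1 (hg ⟨x, hx⟩)
  obtain ⟨j, hj⟩ := mem_zpowers_iff.1 (hg ⟨y, hy⟩)
  have h : (⟨x, hx⟩ : P) * ⟨y, hy⟩ = ⟨y, hy⟩ * ⟨x, hx⟩ := by
    rw [← hi, ← hj, ← zpow_add, ← zpow_add, add_comm]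
  exact congrArg Subtype.val h

theorem rank_centralizer (hM : IsPModular p M) (P : Sylow p G) (hP : Nat.card P = p) {u : G}
    (hu : u ∈ (P : Subgroup G)) (hu1 : u ≠ 1) :
    blockRank p (principalBlock M (centralizer ({u} : Set G))) = 1 := by
  have : Fintype ↥(centralizer ({u} : Set G)) := Fintype.ofFinite _
  refine S4646.rank_one_of_compl hM ?_
  have hC := centralizer_eq P hP hu hu1
  have hcomm : ∀ x ∈ (P : Subgroup G), x ∈ centralizer ({u} : Set G) := by
    intro x hx
    rw [mem_centralizer_singleton_iff]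
    exact comm_of_prime P hP hx hu
  apply hnc_of_le (P.subtype hcomm)
  intro h _
  have h1 : (h : G) ∈ centralizer ((P : Subgroup G) : Set G) := hC ▸ h.2
  rw [mem_centralizer_iff]
  intro g hg
  apply Subtype.ext
  exact mem_centralizer_iff.1 h1 g (mem_subgroupOf.1 hg)

theorem ncard_conj (P : Sylow p G) (hP : Nat.card P = p) {u : G}
    (hu : u ∈ (P : Subgroup G)) (hu1 : u ≠ 1) :
    {v : G | v ∈ (P : Subgroup G) ∧ IsConj v u}.ncard =
      (centralizer ((P : Subgroup G) : Set G)).relIndex (normalizer ((P : Subgroup G) : Set G)) := by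
  have hcomm : IsMulCommutative (P : Subgroup G) :=
    ⟨⟨fun x y => Subtype.ext (comm_of_prime P hP x.2 y.2)⟩⟩
  set N := normalizer ((P : Subgroup G) : Set G) with hN
  let _ : MulAction N G := MulAction.compHom G ((MulAut.conj (G := G)).comp N.subtype)
  have hsm : ∀ (n : N) (g : G), n • g = (n : G) * g * (n : G)⁻¹ := fun n g => rfl
  have h1 : MulAction.orbit N u = {v : G | v ∈ (P : Subgroup G) ∧ IsConj v u} := by
    ext v
    constructor
    · rintro ⟨n, rfl⟩
      refine ⟨?_, ?_⟩
      · show n • u ∈ _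
        rw [hsm]
        exact (mem_normalizer_iff.1 n.2 u).1 hu
      · show IsConj (n • u) u
        rw [hsm]
        exact IsConj.symm (isConj_iff.2 ⟨n, rfl⟩)
    · rintro ⟨hv, hc⟩
      obtain ⟨g, hg⟩ := isConj_iff.1 hc.symm
      obtain ⟨n, hn, h⟩ := P.conj_eq_normalizer_conj_of_mem u g⁻¹ hu (by
        rw [inv_inv, hg]; exact hv)
      rw [inv_inv, hg] at h
      refine ⟨⟨n⁻¹, N.inv_mem hn⟩, ?_⟩
      show (⟨n⁻¹, N.inv_mem hn⟩ : N) • u = v
      rw [hsm, h]
      simp
  have h2 : MulAction.stabilizer N u =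
      (centralizer ((P : Subgroup G) : Set G)).subgroupOf N := by
    ext n
    rw [MulAction.mem_stabilizer_iff, hsm, mem_subgroupOf, ← centralizer_eq P hP hu hu1,
      mem_centralizer_singleton_iff]
    exact mul_inv_eq_iff_eq_mul
  rw [← h1, ← MulAction.index_stabilizer, h2]
  rfl

/-- **`l(B₀) = e`.** -/
theorem rank_prime (hM : IsPModular p M) (hp2 : p ≠ 2) (P : Sylow p G) (hP : Nat.card P = p) :
    blockRank p (principalBlock M G) =
      (centralizer ((P : Subgroup G) : Set G)).relIndex
        (normalizer ((P : Subgroup G) : Set G)) := by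
  classical
  have := Fintype.ofFinite G
  set e := (centralizer ((P : Subgroup G) : Set G)).relIndex
        (normalizer ((P : Subgroup G) : Set G)) with he
  have he0 : 0 < e := Nat.pos_of_ne_zero Subgroup.index_ne_zero_of_finite
  obtain ⟨X, h1X, hX, hXrep⟩ := H634.Cols.exists_reps (p := p) ({1} : Finset G)
    (by intro x hx; rw [Finset.mem_singleton.1 hx]; exact ⟨0, by simp⟩)
    (by
      intro x hx y hy _
      rw [Finset.mem_singleton.1 hx, Finset.mem_singleton.1 hy])
  have h1 : (1 : G) ∈ X := h1X (Finset.mem_singleton_self 1)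
  have hk := H634.Cols.card_principal_eq hM X hX hXrep
  rw [(S0960.result p M hM hp2 P hP e rfl).1, ← Finset.add_sum_erase X _ h1,
    rank_of_eq_top (G := G) (H := centralizer ({(1 : G)} : Set G)) (by
      rw [eq_top_iff]; intro g _; rw [mem_centralizer_singleton_iff]; simp)] at hk
  have hrest : ∀ x ∈ X.erase 1, ∃ v ∈ (P : Subgroup G), IsConj x v ∧ v ≠ 1 := by
    intro x hx
    obtain ⟨hx1, hxX⟩ := Finset.mem_erase.1 hx
    obtain ⟨v, hv, hxv⟩ := exists_conj_mem P (hX x hxX)
    refine ⟨v, hv, hxv, ?_⟩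
    rintro rfl
    exact hx1 (isConj_one_left.1 hxv)
  have hone : ∀ x ∈ X.erase 1,
      blockRank p (principalBlock M (centralizer ({x} : Set G))) = 1 := by
    intro x hx
    obtain ⟨v, hv, hxv, hv1⟩ := hrest x hx
    rw [rank_conj hxv, rank_centralizer hM P hP hv hv1]
  rw [Finset.sum_congr rfl hone, Finset.sum_const, smul_eq_mul, mul_one] at hk
  -- counting
  let Pf : Finset G := Finset.univ.filter fun g => g ∈ (P : Subgroup G) ∧ g ≠ 1
  have hcount : e * (X.erase 1).card = p - 1 := by
    have hA : ∀ x ∈ X.erase 1, (Pf.filter (fun u => IsConj u x)).card = e := by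
      intro x hx
      obtain ⟨v, hv, hxv, hv1⟩ := hrest x hx
      rw [he, ← ncard_conj P hP hv hv1, ← Set.ncard_coe_finset]
      congr 1
      ext u
      simp only [Finset.coe_filter, Finset.mem_filter, Finset.mem_univ, true_and,
        Set.mem_ofPred_eq, Pf]
      constructor
      · exact fun h => ⟨h.1.1, h.2.trans hxv⟩
      · refine fun h => ⟨⟨h.1, ?_⟩, h.2.trans hxv.symm⟩
        rintro rfl
        exact hv1 (isConj_one_right.1 h.2)
    have hB : ∑ x ∈ X.erase 1, (Pf.filter (fun u => IsConj u x)).card = Pf.card := by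
      have h2 : ∀ x ∈ X.erase 1, (Pf.filter (fun u => IsConj u x)).card =
          ∑ u ∈ Pf, if IsConj u x then 1 else 0 := fun x _ => by rw [Finset.card_filter]
      rw [Finset.sum_congr rfl h2, Finset.sum_comm, Finset.card_eq_sum_ones]
      refine Finset.sum_congr rfl fun u hu => ?_
      obtain ⟨huP, hu1⟩ := (Finset.mem_filter.1 hu).2
      have hpu : ∃ k : ℕ, orderOf u = p ^ k := by
        obtain ⟨k, hk⟩ := (IsPGroup.iff_orderOf.1 P.2) ⟨u, huP⟩
        exact ⟨k, by rw [← hk, Subgroup.orderOf_mk]⟩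
      obtain ⟨x, ⟨hxX, hxu⟩, huniq⟩ := hXrep u hpu
      have hx1 : x ≠ 1 := by
        rintro rfl
        exact hu1 (isConj_one_left.1 hxu)
      rw [Finset.sum_eq_single x, if_pos hxu]
      · intro y hy hne
        rw [if_neg]
        intro hc
        exact hne (huniq y ⟨(Finset.mem_erase.1 hy).2, hc⟩)
      · intro h
        exact absurd (Finset.mem_erase.2 ⟨hx1, hxX⟩) h
    have hC : Pf.card = p - 1 := by
      have h3 : Pf = (Finset.univ.filter fun g => g ∈ (P : Subgroup G)).erase 1 := by
        ext g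
        simp only [Pf, Finset.mem_filter, Finset.mem_univ, true_and, Finset.mem_erase]
        tauto
      rw [h3, Finset.card_erase_of_mem (by simp [P.one_mem])]
      congr 1
      refine Eq.trans ?_ hP
      rw [← Fintype.card_subtype, ← Nat.card_eq_fintype_card]
    rw [Finset.sum_congr rfl hA, Finset.sum_const, smul_eq_mul, hC] at hB
    rw [mul_comm]; exact hB
  have hd : (p - 1) / e = (X.erase 1).card := by
    rw [← hcount]
    exact Nat.mul_div_cancel_left _ he0
  rw [hd] at hk
  omega

end Cfsg.Agent.H963.OneP.RankPrime
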